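import Cfsg.Agent.Lib.Asch.TF

/-! The field with 32 elements with table arithmetic. -/

set_option autoImplicit false

namespace Cfsg.Lib.E8N

open Cfsg.Lib.Asch

/-- The addition table. -/
def tA32 : ℕ := 0x443214c74254b635cf84653a56d7c675be77df08062290e64a16a6b1ee8c272ad2f6ce37aef3fe10c0131c8552d0973d8d94e11b5e95d6f19f7f9d18820398a45a9287b9ac9ca30bdab4deb38ffbbc214c700443635cf4254ba56d784653e77dfc675b290e6080626b1ee4a16aad2f68c272ef3fece37a31c8510c0173d8d52d09b5e9594e11f7f9dd6f19398a4188207b9ac5a928bdab49ca30ffbbcdeb384254b635cf00443214c7c675be77df84653a56d74a16a6b1ee08062290e6ce37aef3fe8c272ad2f652d0973d8d10c0131c85d6f19f7f9d94e11b5e955a9287b9ac18820398a4deb38ffbbc9ca30bdab4635cf4254b214c700443e77dfc675ba56d7846536b1ee4a16a290e608062ef3fece37aad2f68c27273d8d52d0931c8510c01f7f9dd6f19b5e9594e117b9ac5a928398a418820ffbbcdeb38bdab49ca3084653a56d7c675be77df00443214c74254b635cf8c272ad2f6ce37aef3fe08062290e64a16a6b1ee94e11b5e95d6f19f7f9d10c0131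c8552d0973d8d9ca30bdab4deb38ffbbc18820398a45a9287b9aca56d784653e77dfc675b214c700443635cf4254bad2f68c272ef3fece37a290e6080626b1ee4a16ab5e9594e11f7f9dd6f1931c8510c0173d8d52d09bdab49ca30ffbbcdeb38398a4188207b9ac5a928c675be77df84653a56d74254b635cf00443214c7ce37aef3fe8c272ad2f64a16a6b1ee08062290e6d6f19f7f9d94e11b5e9552d0973d8d10c0131c85deb38ffbbc9ca30bdab45a9287b9ac18820398a4e77dfc675ba56d784653635cf4254b214c700443ef3fece37aad2f68c2726b1ee4a16a290e608062f7f9dd6f19b5e9594e1173d8d52d0931c8510c01ffbbcdeb38bdab49ca307b9ac5a928398a418820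

/-- The multiplication table. -/
def tM32 : ℕ := 0x935360fb458b95517726a2df03e383ba19326fe06ce8ad107d363e18bd16d945c64aab839373e7c04d2cb93db0d1cb80f3c355ea88b1d3c90db17fa0b29774d6886c60c939f32e704d18fbf087f0f7800ea491662a3f28f27eec6dbc5757a65c30344f60f11f5c8d128283bbb4dc162692fe8e65ba75c740d0db48a0df657623fa099a89dc05f62f24b75f202f60854be7d8dd6a3039e11319acde16aef6d70089b4d3c19bc3e64764b21d11fa8bc957436e2ee0760f1e2aa37e4d0eae82668b3f22e16ec92fa6c057cb0a076e99b896e057ea2471d9992457ed3ea0a870c7ec562413df2a6791beb470b11dddacb6801443225cf4775be46d78d272ae3fecb16a680e60ebf8efb7cccaf0ada748a9e86b96c488e0298640ca3cfb9a012d0535e99d2547256dbcc27eeb1e20358736713990ae7c23ad5edde0c494fbf4aa9600a6d4568a7c1b3b2d548bfc02e3271741ed98f9e0596f9b6144a690649ebb8798268e3f7867d971c078ab8f4c894165fcd06e0b3768754732f91be9a0871042a7b1fcceb51a5e70adaddc6f0b735a61803b23a71713af868e5d413361b79332a7c49ed960c4986afc2b122dc7977148fb723a1a9e4edf5140e55c7ed1e6f5d85fd9a4c4543cc162d4d01dc9201ae7b33ade4873161394bfcef9684aed5a5c4100bc33e5b0a253483b471f43cc1a4f5dacb7c4b8e04388285b9aeee3728d2f3856dfe675953d8530c0624c3c76570916eac3fab4f9911d0ddfa347a8a09df7f19d6fb4bda309cacf6354b425e62906208021c4142dcde7f5984ed58caf4efb784a9ec29860de7fd9c6f55a5ed184e5f7358b52507314831040ffbbcdeb38bdab49ca307b9ac5a928398a4188200000000000000000000000000000000000000000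

/-- The field with 32 elements. -/
abbrev F32 := TF 32 tA32 tM32 0xdd263fd5512a35ee8b0b699e78649663ae9e4820 1

instance fieldF32 : Field F32 := Field.ofMinimalAxioms _ (by decide +kernel) (by decide +kernel)
  (by decide +kernel) (by decide +kernel) (by decide +kernel) (by decide +kernel) (by decide +kernel)
  (by decide +kernel) (by decide +kernel) ⟨0, 1, by decide +kernel⟩

end Cfsg.Lib.E8N
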